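import Mathlib
import Cfsg.Prelude.Def_KGroupFacts

/-!
Bounds for outer automorphism groups from a pair of generators.
-/

set_option autoImplicit false

namespace CfsgLib.Sporadic.OutCert

open Cfsg
open scoped Pointwise

universe u v

/-- Isomorphic groups have outer automorphism groups of the same order. -/
theorem card_out_congr {G : Type u} {H : Type v} [Group G] [Group H] (e : G ≃* H) :
    Nat.card (Out G) = Nat.card (Out H) := by
  have hmap : (Inn G).map (MulAut.congr e).toMonoidHom = Inn H := by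
    ext β
    constructor
    · rintro ⟨_, ⟨g, rfl⟩, rfl⟩
      exact ⟨e g, MulEquiv.ext fun x => by simp [MulAut.congr]⟩
    · rintro ⟨h, rfl⟩
      exact ⟨MulAut.conj (e.symm h), ⟨_, rfl⟩, MulEquiv.ext fun x => by simp [MulAut.congr]⟩
  exact Nat.card_congr (QuotientGroup.congr (Inn G) (Inn H) (MulAut.congr e) hmap).toEquiv

variable {G : Type u} [Group G]

theorem aut_ext {a b : G} (hgen : Subgroup.closure {a, b} = ⊤) {α β : MulAut G}
    (ha : α a = β a) (hb : α b = β b) : α = β := by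
  have h : Set.EqOn α.toMonoidHom β.toMonoidHom ({a, b} : Set G) := by
    rintro x (rfl | rfl)
    · exact ha
    · exact hb
  have h' := MonoidHom.eq_of_eqOn_dense hgen h
  exact MulEquiv.ext fun x => DFunLike.congr_fun h' x

/-- Some conjugate of the image of an element whose cyclic group is a Sylow subgroup is one of its
powers. -/
theorem exists_conj_pow [Finite G] {p : ℕ} [hp : Fact p.Prime] (hp2 : ¬ p ^ 2 ∣ Nat.card G) {a x : G}
    (ha : orderOf a = p) (hx : orderOf x = p) :
    ∃ (g : G) (j : ℕ), 0 < j ∧ j < p ∧ g * x * g⁻¹ = a ^ j := by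
  have hcard : ∀ y : G, orderOf y = p → Nat.card (Subgroup.zpowers y) = p ^ (Nat.card G).factorization p := by
    intro y hy
    rw [Nat.card_zpowers, hy]
    have h1 : p ∣ Nat.card G := hy ▸ orderOf_dvd_natCard y
    have h0 : Nat.card G ≠ 0 := Nat.card_pos.ne'
    have hge := (hp.out.dvd_iff_one_le_factorization h0).1 h1
    have hle : (Nat.card G).factorization p < 2 := by
      by_contra h
      exact hp2 ((hp.out.pow_dvd_iff_le_factorization h0).2 (not_lt.1 h))
    rw [show (Nat.card G).factorization p = 1 by omega, pow_one]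
  obtain ⟨g, hg⟩ := MulAction.exists_smul_eq G (Sylow.ofCard (Subgroup.zpowers x) (hcard x hx))
    (Sylow.ofCard (Subgroup.zpowers a) (hcard a ha))
  have hmem : g * x * g⁻¹ ∈ Subgroup.zpowers a := by
    have h := congrArg (fun P : Sylow p G => (P : Subgroup G)) hg
    simp only [Sylow.coe_subgroup_smul] at h
    rw [show (Subgroup.zpowers a : Subgroup G) = MulAut.conj g • Subgroup.zpowers x from h.symm]
    exact ⟨x, Subgroup.mem_zpowers x, rfl⟩
  obtain ⟨j, hj⟩ := (mem_powers_iff_mem_zpowers.2 hmem)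
  refine ⟨g, j % p, ?_, Nat.mod_lt _ hp.out.pos, by rw [← hj, ← ha, pow_mod_orderOf]⟩
  by_contra h0
  rw [Nat.pos_iff_ne_zero, not_not] at h0
  have h1 : g * x * g⁻¹ = 1 := by
    rw [← hj]
    show a ^ j = 1
    rw [← pow_mod_orderOf, ha, h0, pow_zero]
  rw [conj_eq_one_iff] at h1
  rw [h1, orderOf_one] at hx
  exact hp.out.ne_one hx.symm

/-- The class of an element, as a number, is preserved by automorphisms. -/
theorem ncard_class_aut (α : MulAut G) (x : G) :
    {y : G | IsConj (α x) y}.ncard = {y : G | IsConj x y}.ncard := by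
  have h : {y : G | IsConj (α x) y} = α '' {y : G | IsConj x y} := by
    ext y
    constructor
    · intro hy
      refine ⟨α.symm y, ?_, α.apply_symm_apply y⟩
      have := (α.symm.toMonoidHom).map_isConj hy
      simpa using this
    · rintro ⟨z, hz, rfl⟩
      exact α.toMonoidHom.map_isConj hz
  rw [h, Set.ncard_image_of_injective _ α.injective]

/-- At most two outer automorphisms. -/
theorem card_out_le_two [Finite G] {a b : G} {p : ℕ} [Fact p.Prime] (hp2 : ¬ p ^ 2 ∣ Nat.card G)
    (ha : orderOf a = p) (hgen : Subgroup.closure {a, b} = ⊤) (a' b' : G) (hcomm : Commute a a')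
    (hN : ∀ j, 0 < j → j < p → ∃ g : G, g * a ^ j * g⁻¹ = a ∨ g * a ^ j * g⁻¹ = a')
    (h1 : ∀ α : MulAut G, α a = a → ∃ i : ℕ, α b = a ^ i * b * (a ^ i)⁻¹)
    (h2 : ∀ α : MulAut G, α a = a' → ∃ i : ℕ, α b = a ^ i * b' * (a ^ i)⁻¹) :
    Nat.card (Out G) ≤ 2 := by
  classical
  have step : ∀ α : MulAut G, α ∈ Inn G ∨ ∃ γ ∈ Inn G, (γ * α) a = a' ∧ (γ * α) b = b' := by
    intro α
    obtain ⟨g, j, hj0, hjp, hg⟩ := exists_conj_pow hp2 ha ((MulEquiv.orderOf_eq α a).trans ha)
    obtain ⟨n, hn⟩ := hN j hj0 hjp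
    have e : ∀ y, (MulAut.conj (n * g) * α) y = n * (g * α y * g⁻¹) * n⁻¹ := fun y => by
      simp [mul_assoc]
    rcases hn with hn | hn
    · left
      have hA : (MulAut.conj (n * g) * α) a = a := by rw [e, hg, hn]
      obtain ⟨i, hi⟩ := h1 _ hA
      have hfin : MulAut.conj (n * g) * α = MulAut.conj (a ^ i) := by
        refine aut_ext hgen ?_ (by rw [hi, MulAut.conj_apply])
        rw [hA, MulAut.conj_apply, mul_inv_eq_iff_eq_mul.2]
        exact ((Commute.refl a).pow_left i).eq
      rw [show α = (MulAut.conj (n * g))⁻¹ * MulAut.conj (a ^ i) by rw [← hfin, inv_mul_cancel_left]]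
      exact mul_mem (inv_mem ⟨_, rfl⟩) ⟨_, rfl⟩
    · right
      have hA : (MulAut.conj (n * g) * α) a = a' := by rw [e, hg, hn]
      obtain ⟨i, hi⟩ := h2 _ hA
      refine ⟨MulAut.conj ((a ^ i)⁻¹ * (n * g)), ⟨_, rfl⟩, ?_, ?_⟩
      · rw [map_mul, mul_assoc, MulAut.mul_apply, hA, MulAut.conj_apply, inv_inv, mul_assoc,
          ← (hcomm.pow_left i).eq, inv_mul_cancel_left]
      · rw [map_mul, mul_assoc, MulAut.mul_apply, hi, MulAut.conj_apply, inv_inv]
        group
  by_cases hall : ∀ α : MulAut G, α ∈ Inn G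
  · have : Subsingleton (Out G) := ⟨fun x y => by
      obtain ⟨α, rfl⟩ := QuotientGroup.mk_surjective x
      obtain ⟨β, rfl⟩ := QuotientGroup.mk_surjective y
      exact ((QuotientGroup.eq_one_iff α).2 (hall α)).trans ((QuotientGroup.eq_one_iff β).2 (hall β)).symm⟩
    rw [Nat.card_unique]; norm_num
  obtain ⟨α0, hα0⟩ := not_forall.1 hall
  refine (Nat.card_le_card_of_surjective
    (fun c : Bool => if c then (1 : Out G) else QuotientGroup.mk α0) fun q => ?_).trans (by simp)
  obtain ⟨α, rfl⟩ := QuotientGroup.mk_surjective q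
  by_cases hα : α ∈ Inn G
  · exact ⟨true, ((QuotientGroup.eq_one_iff α).2 hα).symm⟩
  refine ⟨false, ?_⟩
  obtain ⟨γ, hγ, e1, e2⟩ := (step α).resolve_left hα
  obtain ⟨γ0, hγ0, f1, f2⟩ := (step α0).resolve_left hα0
  have h := aut_ext hgen (f1.trans e1.symm) (f2.trans e2.symm)
  simp only [Bool.false_eq_true, if_false]
  have := congrArg (QuotientGroup.mk (s := Inn G)) h
  simpa [(QuotientGroup.eq_one_iff γ).2 hγ, (QuotientGroup.eq_one_iff γ0).2 hγ0] using this

/-- At most two outer automorphisms, the two generating powers not being exchanged. -/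
theorem card_out_le_two_of_fixed [Finite G] {a b : G} {p : ℕ} [Fact p.Prime] (hp2 : ¬ p ^ 2 ∣ Nat.card G)
    (ha : orderOf a = p) (hgen : Subgroup.closure {a, b} = ⊤) (a' b' : G)
    (hN : ∀ j, 0 < j → j < p → ∃ g : G, g * a ^ j * g⁻¹ = a ∨ g * a ^ j * g⁻¹ = a')
    (h1 : ∀ α : MulAut G, α a = a →
      ∃ i : ℕ, α b = a ^ i * b * (a ^ i)⁻¹ ∨ α b = a ^ i * b' * (a ^ i)⁻¹)
    (h2 : ∀ α : MulAut G, α a ≠ a') :
    Nat.card (Out G) ≤ 2 := by
  classical
  have step : ∀ α : MulAut G, ∃ γ ∈ Inn G, (γ * α) a = a ∧ ((γ * α) b = b ∨ (γ * α) b = b') := by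
    intro α
    obtain ⟨g, j, hj0, hjp, hg⟩ := exists_conj_pow hp2 ha ((MulEquiv.orderOf_eq α a).trans ha)
    obtain ⟨n, hn⟩ := hN j hj0 hjp
    have e : ∀ y, (MulAut.conj (n * g) * α) y = n * (g * α y * g⁻¹) * n⁻¹ := fun y => by
      simp [mul_assoc]
    have hA : (MulAut.conj (n * g) * α) a = a := by
      rcases hn with hn | hn
      · rw [e, hg, hn]
      · exact absurd (by rw [e, hg, hn]) (h2 (MulAut.conj (n * g) * α))
    obtain ⟨i, hi⟩ := h1 _ hA
    refine ⟨MulAut.conj ((a ^ i)⁻¹ * (n * g)), ⟨_, rfl⟩, ?_, ?_⟩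
    · rw [map_mul, mul_assoc, MulAut.mul_apply, hA, MulAut.conj_apply, inv_inv, mul_assoc,
        ← ((Commute.refl a).pow_left i).eq, inv_mul_cancel_left]
    · rw [map_mul, mul_assoc, MulAut.mul_apply, MulAut.conj_apply, inv_inv]
      rcases hi with hi | hi <;> rw [hi]
      · left; group
      · right; group
  by_cases hall : ∀ α : MulAut G, α ∈ Inn G
  · have : Subsingleton (Out G) := ⟨fun x y => by
      obtain ⟨α, rfl⟩ := QuotientGroup.mk_surjective x
      obtain ⟨β, rfl⟩ := QuotientGroup.mk_surjective y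
      exact ((QuotientGroup.eq_one_iff α).2 (hall α)).trans ((QuotientGroup.eq_one_iff β).2 (hall β)).symm⟩
    rw [Nat.card_unique]; norm_num
  obtain ⟨α0, hα0⟩ := not_forall.1 hall
  refine (Nat.card_le_card_of_surjective
    (fun c : Bool => if c then (1 : Out G) else QuotientGroup.mk α0) fun q => ?_).trans (by simp)
  obtain ⟨α, rfl⟩ := QuotientGroup.mk_surjective q
  by_cases hα : α ∈ Inn G
  · exact ⟨true, ((QuotientGroup.eq_one_iff α).2 hα).symm⟩
  refine ⟨false, ?_⟩
  have other : ∀ β : MulAut G, β ∉ Inn G → ∃ γ ∈ Inn G, (γ * β) a = a ∧ (γ * β) b = b' := by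
    intro β hβ
    obtain ⟨γ, hγ, e1, e2 | e2⟩ := step β
    · refine absurd ?_ hβ
      have h := aut_ext hgen (α := γ * β) (β := 1) e1 e2
      rw [show β = γ⁻¹ from eq_inv_of_mul_eq_one_right h]
      exact inv_mem hγ
    · exact ⟨γ, hγ, e1, e2⟩
  obtain ⟨γ, hγ, e1, e2⟩ := other α hα
  obtain ⟨γ0, hγ0, f1, f2⟩ := other α0 hα0
  have h := aut_ext hgen (f1.trans e1.symm) (f2.trans e2.symm)
  simp only [Bool.false_eq_true, if_false]
  have := congrArg (QuotientGroup.mk (s := Inn G)) h
  simpa [(QuotientGroup.eq_one_iff γ).2 hγ, (QuotientGroup.eq_one_iff γ0).2 hγ0] using this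

/-- An element commuting with a transitive set of permutations and fixed through a stabiliser. -/
theorem perm_eq_one {X : Type*} (H : Subgroup (Equiv.Perm X)) (x0 : X)
    (htrans : ∀ y, ∃ g ∈ H, g x0 = y) (hfix : ∀ y, (∀ g ∈ H, g x0 = x0 → g y = y) → y = x0)
    (c : Equiv.Perm X) (hc : ∀ g ∈ H, c * g = g * c) : c = 1 := by
  have h0 : c x0 = x0 := hfix _ fun g hg hg0 => by
    have := congrArg (fun f : Equiv.Perm X => f x0) (hc g hg)
    simpa [hg0] using this.symm
  ext y
  obtain ⟨g, hg, rfl⟩ := htrans y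
  have := congrArg (fun f : Equiv.Perm X => f x0) (hc g hg)
  simpa [h0] using this

/-- A proper subgroup of a simple group bounds the order by the factorial of its index. -/
theorem card_dvd_factorial [Finite G] [IsSimpleGroup G] (H : Subgroup G) (hH : H ≠ ⊤) :
    Nat.card G ∣ H.index.factorial := by
  classical
  have hcore : H.normalCore = ⊥ := by
    refine (H.normalCore_normal).eq_bot_or_eq_top.resolve_right fun h => hH ?_
    exact top_le_iff.1 (h ▸ H.normalCore_le)
  have hinj : Function.Injective (MulAction.toPermHom G (G ⧸ H)) := by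
    rw [← MonoidHom.ker_eq_bot_iff, ← Subgroup.normalCore_eq_ker, hcore]
  have := Subgroup.card_dvd_of_injective _ hinj
  rwa [Nat.card_perm] at this

end CfsgLib.Sporadic.OutCert
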