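import Cfsg.Agent.Lib.Sporadic.OutCert.Perm

/-!
Lower bounds for orders of permutation groups from orbits along a chain of point stabilisers.
-/

set_option autoImplicit false

namespace CfsgLib.Sporadic.OutCert

/-- A base point, some elements, and the rest of their orbit with predecessors. -/
structure Level where
  /-- The base point. -/
  base : ℕ
  /-- The numbers of the elements. -/
  gens : List ℕ
  /-- The further points, each with its predecessor and the position of the element. -/
  orb : List (ℕ × ℕ × ℕ)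

variable (w N : ℕ)

/-- Every point is new and comes from an earlier one. -/
def orbK (gens : List ℕ) : List (ℕ × ℕ × ℕ) → ℕ → Bool
  | [], _ => true
  | e :: l, m => Nat.blt e.2.2 gens.length && (Nat.testBit m e.2.1 &&
      (lk w (gens.getD e.2.2 0) e.2.1 == e.1 && (!(Nat.testBit m e.1) && orbK gens l (m ||| 2 ^ e.1))))

/-- The chain is right. -/
def levelsK : List Level → Bool
  | [] => true
  | L :: r => Nat.blt L.base N && (orbK w L.gens L.orb (2 ^ L.base) &&
      ((r.all fun M => M.gens.all fun g => lk w g L.base == L.base) && levelsK r))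

variable {w N}

theorem orbK_spec {K : Subgroup (Equiv.Perm (Fin N))} {b : Fin N} {gens : List ℕ}
    (hg : ∀ g ∈ gens, ∃ x ∈ K, Rep w N g x) : ∀ {l : List (ℕ × ℕ × ℕ)} {m : ℕ}, orbK w gens l m = true →
    (∀ p, m.testBit p = true → ∃ y ∈ MulAction.orbit K b, (y : ℕ) = p) →
    (l.map Prod.fst).Nodup ∧ (∀ e ∈ l, m.testBit e.1 = false) ∧
      ∀ e ∈ l, ∃ y ∈ MulAction.orbit K b, (y : ℕ) = e.1
  | [], _, _, _ => ⟨List.nodup_nil, by simp, by simp⟩
  | e :: l, m, h, hm => by
    simp only [orbK, Bool.and_eq_true, Bool.not_eq_true', Nat.blt_eq, beq_iff_eq] at h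
    obtain ⟨hlt, hpar, himg, hnew, hrest⟩ := h
    obtain ⟨y, hy, hye⟩ := hm _ hpar
    obtain ⟨x, hx, hxr⟩ := hg _ (List.getElem_mem hlt)
    have hz : ∃ z ∈ MulAction.orbit K b, (z : ℕ) = e.1 := by
      refine ⟨x y, MulAction.mem_orbit_of_mem_orbit (⟨x, hx⟩ : K) hy, ?_⟩
      rw [← himg, ← hye, List.getD_eq_getElem _ _ hlt]
      exact (hxr y).symm
    have hm' : ∀ p, (m ||| 2 ^ e.1).testBit p = true → ∃ y ∈ MulAction.orbit K b, (y : ℕ) = p := by
      intro p hp
      rw [Nat.testBit_lor, Bool.or_eq_true] at hp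
      rcases hp with hp | hp
      · exact hm p hp
      · rw [Nat.testBit_two_pow, decide_eq_true_eq] at hp
        exact hp ▸ hz
    obtain ⟨hn, hfresh, hmem⟩ := orbK_spec hg hrest hm'
    refine ⟨List.nodup_cons.2 ⟨fun he => ?_, hn⟩, ?_, ?_⟩
    · obtain ⟨f, hf, hfe⟩ := List.mem_map.1 he
      have h1 := hfresh f hf
      rw [hfe, Nat.testBit_lor, Nat.testBit_two_pow_self, Bool.or_true] at h1
      exact Bool.noConfusion h1
    · intro f hf
      rcases List.mem_cons.1 hf with rfl | hf
      · exact hnew
      · have h1 := hfresh f hf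
        rw [Nat.testBit_lor, Bool.or_eq_false_iff] at h1
        exact h1.1
    · intro f hf
      rcases List.mem_cons.1 hf with rfl | hf
      · exact hz
      · exact hmem f hf

theorem card_ge_levels : ∀ (lv : List Level) (K : Subgroup (Equiv.Perm (Fin N))), levelsK w N lv = true →
    (∀ L ∈ lv, ∀ g ∈ L.gens, ∃ x ∈ K, Rep w N g x) → (lv.map fun L => L.orb.length + 1).prod ≤ Nat.card K
  | [], K, _, _ => by simpa using Nat.one_le_iff_ne_zero.2 Nat.card_pos.ne'
  | L :: r, K, h, hg => by
    classical
    simp only [levelsK, Bool.and_eq_true, Nat.blt_eq, List.all_eq_true, beq_iff_eq] at h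
    obtain ⟨hb, hent, hfix, hr⟩ := h
    let b : Fin N := ⟨L.base, hb⟩
    obtain ⟨hnd, hnew, horb⟩ := orbK_spec (b := b) (hg L List.mem_cons_self) hent fun p hp => by
      rw [Nat.testBit_two_pow, decide_eq_true_eq] at hp
      exact ⟨b, MulAction.mem_orbit_self b, hp⟩
    have hlen : L.orb.length + 1 ≤ (MulAction.orbit K b).ncard := by
      have hnd' : (L.base :: L.orb.map Prod.fst).Nodup := List.nodup_cons.2 ⟨fun he => by
        obtain ⟨e, he', hee⟩ := List.mem_map.1 he
        have := hnew e he'
        rw [hee, Nat.testBit_two_pow_self] at this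
        exact Bool.noConfusion this, hnd⟩
      have hsub : ((L.base :: L.orb.map Prod.fst).toFinset : Set ℕ) ⊆ Fin.val '' MulAction.orbit K b := by
        intro v hv
        rw [Finset.mem_coe, List.mem_toFinset, List.mem_cons, List.mem_map] at hv
        rcases hv with rfl | ⟨e, he, rfl⟩
        · exact ⟨b, MulAction.mem_orbit_self b, rfl⟩
        · exact horb e he
      have := Set.ncard_le_ncard hsub (Set.toFinite _)
      rwa [Set.ncard_coe_finset, List.toFinset_card_of_nodup hnd', List.length_cons, List.length_map,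
        Set.ncard_image_of_injective _ Fin.val_injective] at this
    let K' : Subgroup (Equiv.Perm (Fin N)) := K ⊓ MulAction.stabilizer (Equiv.Perm (Fin N)) b
    have hK' : Nat.card K' = Nat.card (MulAction.stabilizer K b) :=
      Nat.card_congr
        { toFun := fun g => ⟨⟨g.1, g.2.1⟩, g.2.2⟩
          invFun := fun g => ⟨g.1.1, g.1.2, g.2⟩
          left_inv := fun _ => rfl
          right_inv := fun _ => rfl }
    have ih := card_ge_levels r K' hr fun M hM g hgM => by
      obtain ⟨x, hx, hxr⟩ := hg M (List.mem_cons_of_mem _ hM) g hgM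
      exact ⟨x, ⟨hx, Fin.ext ((hxr b).symm.trans (hfix M hM g hgM))⟩, hxr⟩
    have hmul := (MulAction.stabilizer K b).index_mul_card
    rw [MulAction.index_stabilizer] at hmul
    rw [List.map_cons, List.prod_cons, ← hmul]
    exact Nat.mul_le_mul hlen (ih.trans hK'.le)

end CfsgLib.Sporadic.OutCert
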