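import Mathlib

/-!
Permutations of `Fin N` written as numbers in base `2 ^ w`, and search trees of such numbers, for
checks by kernel evaluation.
-/

set_option autoImplicit false

namespace CfsgLib.Sporadic.OutCert

/-- A search tree of keys, each with three numbers attached. -/
inductive Tree : Type
  | leaf : Tree
  | node (l : Tree) (k p g d : ℕ) (r : Tree) : Tree

namespace Tree

/-- The numbers attached to a key. -/
def get : Tree → ℕ → Option (ℕ × ℕ × ℕ)
  | .leaf, _ => none
  | .node l k p g d r, x =>
    if Nat.blt x k then get l x else if Nat.blt k x then get r x else some (p, g, d)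

/-- A key occurs. -/
def has (t : Tree) (x : ℕ) : Bool := (t.get x).isSome

/-- The entries in order. -/
def entries : Tree → List (ℕ × ℕ × ℕ × ℕ)
  | .leaf => []
  | .node l k p g d r => entries l ++ (k, p, g, d) :: entries r

/-- Every entry satisfies a condition. -/
def every (c : ℕ → ℕ → ℕ → ℕ → Bool) : Tree → Bool
  | .leaf => true
  | .node l k p g d r => c k p g d && (every c l && every c r)

theorem mem_of_get {t : Tree} {x : ℕ} {v : ℕ × ℕ × ℕ} (h : t.get x = some v) :
    (x, v.1, v.2.1, v.2.2) ∈ t.entries := by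
  induction t with
  | leaf => simp [get] at h
  | node l k p g d r ihl ihr =>
    simp only [get] at h
    split at h
    · exact List.mem_append_left _ (ihl h)
    rename_i h1
    split at h
    · exact List.mem_append_right _ (List.mem_cons_of_mem _ (ihr h))
    rename_i h2
    simp only [Nat.blt_eq, not_lt] at h1 h2
    obtain rfl : x = k := le_antisymm h2 h1
    simp only [Option.some.injEq] at h
    subst h
    exact List.mem_append_right _ List.mem_cons_self

theorem every_sound {c : ℕ → ℕ → ℕ → ℕ → Bool} {t : Tree} (h : t.every c = true) {e : ℕ × ℕ × ℕ × ℕ}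
    (he : e ∈ t.entries) : c e.1 e.2.1 e.2.2.1 e.2.2.2 = true := by
  induction t with
  | leaf => simp [entries] at he
  | node l k p g d r ihl ihr =>
    simp only [every, Bool.and_eq_true] at h
    simp only [entries, List.mem_append, List.mem_cons] at he
    rcases he with he | rfl | he
    · exact ihl h.2.1 he
    · exact h.1
    · exact ihr h.2.2 he

theorem exists_entry {t : Tree} {x : ℕ} (h : t.has x = true) : ∃ e ∈ t.entries, e.1 = x := by
  obtain ⟨v, hv⟩ := Option.isSome_iff_exists.1 h
  exact ⟨_, mem_of_get hv, rfl⟩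

theorem sound_of_has {c : ℕ → ℕ → ℕ → ℕ → Bool} {t : Tree} (h : t.every c = true) {x : ℕ}
    (hx : t.has x = true) : ∃ p g d, c x p g d = true := by
  obtain ⟨e, he, rfl⟩ := exists_entry hx
  exact ⟨_, _, _, every_sound h he⟩

end Tree

variable (w : ℕ)

/-- The digit of a number at a position. -/
def lk (n i : ℕ) : ℕ := Nat.shiftRight n (Nat.mul w i) % Nat.pow 2 w

/-- The number with given digits. -/
def pk : List ℕ → ℕ
  | [] => 0
  | x :: xs => x + Nat.pow 2 w * pk xs

theorem lk_pk {l : List ℕ} (hl : ∀ x ∈ l, x < 2 ^ w) {i : ℕ} (hi : i < l.length) :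
    lk w (pk w l) i = l[i] := by
  induction l generalizing i with
  | nil => simp at hi
  | cons x xs ih =>
    have hx : x < 2 ^ w := hl x List.mem_cons_self
    show (x + 2 ^ w * pk w xs) >>> (w * i) % 2 ^ w = _
    rw [Nat.shiftRight_eq_div_pow]
    cases i with
    | zero => simp [Nat.mod_eq_of_lt hx]
    | succ i =>
      have h := ih (fun y hy => hl y (List.mem_cons_of_mem _ hy)) (by simpa using hi)
      rw [Nat.mul_succ, Nat.add_comm (w * i), Nat.pow_add, ← Nat.div_div_eq_div_mul,
        Nat.add_mul_div_left _ _ (by positivity), Nat.div_eq_of_lt hx, Nat.zero_add, ← Nat.shiftRight_eq_div_pow]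
      simpa [lk] using h

/-- The number with the values of a function at consecutive arguments as digits. -/
noncomputable def pkF (f : ℕ → ℕ) (n : ℕ) : ℕ → ℕ :=
  Nat.rec (fun _ => 0) (fun _ ih s => Nat.add (f s) (Nat.mul (Nat.pow 2 w) (ih (Nat.succ s)))) n

theorem pkF_eq (f : ℕ → ℕ) (n s : ℕ) : pkF w f n s = pk w ((List.range' s n).map f) := by
  induction n generalizing s with
  | zero => rfl
  | succ n ih =>
    show f s + 2 ^ w * pkF w f n (s + 1) = _
    rw [ih]; rfl

theorem pkF_range (f : ℕ → ℕ) (n : ℕ) : pkF w f n 0 = pk w ((List.range n).map f) := by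
  rw [pkF_eq, List.range_eq_range']

/-- A condition holds below a bound. -/
noncomputable def allF (f : ℕ → Bool) (n : ℕ) : Bool :=
  Nat.rec true (fun i ih => cond (f i) ih false) n

theorem allF_iff {f : ℕ → Bool} {n : ℕ} : allF f n = true ↔ ∀ i < n, f i = true := by
  induction n with
  | zero => simp [allF]
  | succ n ih =>
    show cond (f n) (allF f n) false = true ↔ _
    rw [Nat.forall_lt_succ_right, ← ih]
    cases f n <;> simp

variable (N : ℕ)

/-- A number represents a permutation. -/
def Rep (n : ℕ) (g : Equiv.Perm (Fin N)) : Prop := ∀ i : Fin N, lk w n i = (g i : ℕ)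

variable {w N}

theorem Rep.inj {n : ℕ} {g h : Equiv.Perm (Fin N)} (hg : Rep w N n g) (hh : Rep w N n h) : g = h :=
  Equiv.ext fun i => Fin.ext ((hg i).symm.trans (hh i))

variable (w N)

/-- Number of a composite. -/
noncomputable def compK (p q : ℕ) : ℕ := pkF w (fun i => lk w p (lk w q i)) N 0

/-- Number of a conjugate, the conjugating element and its inverse being given. -/
noncomputable def conjK (g gi x : ℕ) : ℕ := pkF w (fun i => lk w g (lk w x (lk w gi i))) N 0

/-- Number of the identity. -/
noncomputable def oneK : ℕ := pkF w (fun i => i) N 0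

/-- A pair of numbers represents a permutation and its inverse. -/
noncomputable def validK (n ni : ℕ) : Bool :=
  allF (fun i => Nat.blt (lk w n i) N && (Nat.blt (lk w ni i) N &&
    (Nat.beq (lk w ni (lk w n i)) i && Nat.beq (lk w n (lk w ni i)) i))) N

variable {w N}

theorem valid_at {n ni : ℕ} (h : validK w N n ni = true) (i : Fin N) :
    lk w n i < N ∧ lk w ni i < N ∧ lk w ni (lk w n i) = i ∧ lk w n (lk w ni i) = i := by
  have := allF_iff.1 h i i.2
  simpa [Bool.and_eq_true, Nat.blt_eq] using this

/-- The permutation of a valid pair. -/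
def permOf (n ni : ℕ) (h : validK w N n ni = true) : Equiv.Perm (Fin N) where
  toFun i := ⟨lk w n i, (valid_at h i).1⟩
  invFun i := ⟨lk w ni i, (valid_at h i).2.1⟩
  left_inv i := Fin.ext (valid_at h i).2.2.1
  right_inv i := Fin.ext (valid_at h i).2.2.2

theorem rep_permOf {n ni : ℕ} (h : validK w N n ni = true) : Rep w N n (permOf n ni h) := fun _ => rfl

theorem rep_permOf_inv {n ni : ℕ} (h : validK w N n ni = true) : Rep w N ni (permOf n ni h)⁻¹ :=
  fun _ => rfl

theorem lk_pk_map (hN : N ≤ 2 ^ w) (f : ℕ → ℕ) (i : Fin N) (hf : ∀ j : Fin N, f j < N) :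
    lk w (pk w ((List.range N).map f)) i = f i := by
  rw [lk_pk w (fun x hx => ?_) (by simp)]
  · simp
  · obtain ⟨j, hj, rfl⟩ := List.mem_map.1 hx
    exact lt_of_lt_of_le (hf ⟨j, List.mem_range.1 hj⟩) hN

theorem rep_one (hN : N ≤ 2 ^ w) : Rep w N (oneK w N) 1 := fun i => by
  rw [oneK, pkF_range, List.map_id', lk_pk w (fun x hx => lt_of_lt_of_le (List.mem_range.1 hx) hN) (by simp)]
  simp

theorem rep_comp (hN : N ≤ 2 ^ w) {p q : ℕ} {g h : Equiv.Perm (Fin N)} (hp : Rep w N p g)
    (hq : Rep w N q h) : Rep w N (compK w N p q) (g * h) := fun i => by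
  rw [compK, pkF_range, lk_pk_map hN _ i fun j => by rw [hq j, hp (h j)]; exact (g (h j)).2]
  rw [hq i, hp (h i)]; rfl

theorem rep_conj (hN : N ≤ 2 ^ w) {p q x : ℕ} {g y : Equiv.Perm (Fin N)} (hp : Rep w N p g)
    (hq : Rep w N q g⁻¹) (hx : Rep w N x y) : Rep w N (conjK w N p q x) (g * y * g⁻¹) := fun i => by
  rw [conjK, pkF_range, lk_pk_map hN _ i fun j => by rw [hq j, hx, hp]; exact (g _).2]
  rw [hq i, hx, hp]; rfl

variable (w N)

/-- Image of a point under a product, the factors given by numbers. -/
noncomputable def appK (l : List ℕ) (x : ℕ) : ℕ := List.rec x (fun k _ ih => lk w k ih) l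

/-- Image of a point under a power of a product. -/
noncomputable def iterK (l : List ℕ) (m x : ℕ) : ℕ := Nat.rec x (fun _ ih => appK w l ih) m

/-- A power of a product is the identity. -/
noncomputable def testK (l : List ℕ) (m : ℕ) : Bool := allF (fun i => Nat.beq (iterK w l m i) i) N

/-- Number of the element of a word in two letters. -/
noncomputable def wordK (a b : ℕ) (l : List Bool) : ℕ :=
  l.foldr (fun c acc => compK w N (if c then b else a) acc) (oneK w N)

variable {w N}

/-- The element of a word in two letters. -/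
def wordP {G : Type*} [Monoid G] (a b : G) (l : List Bool) : G := (l.map fun c => if c then b else a).prod

theorem rep_word (hN : N ≤ 2 ^ w) {a b : ℕ} {A B : Equiv.Perm (Fin N)} (ha : Rep w N a A)
    (hb : Rep w N b B) (l : List Bool) : Rep w N (wordK w N a b l) (wordP A B l) := by
  induction l with
  | nil => simpa [wordK, wordP] using rep_one (w := w) hN
  | cons c l ih =>
    show Rep w N (compK w N (if c then b else a) (wordK w N a b l)) _
    rw [show wordP A B (c :: l) = (if c then B else A) * wordP A B l by simp [wordP]]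
    cases c
    · exact rep_comp hN ha ih
    · exact rep_comp hN hb ih

theorem app_eq {l : List ℕ} {L : List (Equiv.Perm (Fin N))} (h : List.Forall₂ (Rep w N) l L) (i : Fin N) :
    appK w l i = (L.prod i : ℕ) := by
  induction h with
  | nil => rfl
  | cons h1 _ ih =>
    rename_i k g l' L' h2
    show lk w k (appK w l' i) = _
    rw [ih, List.prod_cons, Equiv.Perm.mul_apply, h1]

theorem iter_eq {l : List ℕ} {L : List (Equiv.Perm (Fin N))} (h : List.Forall₂ (Rep w N) l L) (m : ℕ)
    (i : Fin N) : iterK w l m i = ((L.prod ^ m) i : ℕ) := by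
  induction m with
  | zero => rfl
  | succ m ih =>
    show appK w l (iterK w l m i) = _
    rw [ih, app_eq h, pow_succ', Equiv.Perm.mul_apply]

theorem test_iff {l : List ℕ} {L : List (Equiv.Perm (Fin N))} (h : List.Forall₂ (Rep w N) l L) (m : ℕ) :
    testK w N l m = true ↔ L.prod ^ m = 1 := by
  simp only [testK, allF_iff, Nat.beq_eq]
  constructor
  · exact fun ht => Equiv.ext fun i => Fin.ext ((iter_eq h m i).symm.trans (ht i i.2))
  · intro ht i hi
    rw [iter_eq h m ⟨i, hi⟩, ht]; rfl

end CfsgLib.Sporadic.OutCert
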