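import Cfsg.Agent.Lib.Sporadic.OutCert.Perm

/-!
Canonical numbers of permutations, and certified lists of the elements of a generated subgroup.
-/

set_option autoImplicit false

namespace CfsgLib.Sporadic.OutCert

variable {w N : ℕ}

/-- The number of a permutation. -/
noncomputable def key (w : ℕ) (g : Equiv.Perm (Fin N)) : ℕ :=
  pkF w (fun i => if h : i < N then (g ⟨i, h⟩ : ℕ) else 0) N 0

theorem pkF_congr {f f' : ℕ → ℕ} (h : ∀ i < N, f i = f' i) : pkF w f N 0 = pkF w f' N 0 := by
  rw [pkF_range, pkF_range]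
  congr 1
  exact List.map_congr_left fun i hi => h i (List.mem_range.1 hi)

theorem key_one : oneK w N = key w (1 : Equiv.Perm (Fin N)) := by
  rw [oneK, key]
  exact pkF_congr fun i hi => by rw [dif_pos hi]; rfl

theorem key_comp {p q : ℕ} {g h : Equiv.Perm (Fin N)} (hp : Rep w N p g) (hq : Rep w N q h) :
    compK w N p q = key w (g * h) := by
  rw [compK, key]
  exact pkF_congr fun i hi => by rw [dif_pos hi, hq ⟨i, hi⟩, hp]; rfl

theorem key_conj {p q x : ℕ} {g y : Equiv.Perm (Fin N)} (hp : Rep w N p g) (hq : Rep w N q g⁻¹)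
    (hx : Rep w N x y) : conjK w N p q x = key w (g * y * g⁻¹) := by
  rw [conjK, key]
  exact pkF_congr fun i hi => by rw [dif_pos hi, hq ⟨i, hi⟩, hx, hp]; rfl

theorem rep_key (hN : N ≤ 2 ^ w) (g : Equiv.Perm (Fin N)) : Rep w N (key w g) g := fun i => by
  rw [key, pkF_range, lk_pk_map hN _ i fun j => by rw [dif_pos j.2]; exact (g _).2, dif_pos i.2]

theorem ne_one_of_ne (hN : N ≤ 2 ^ w) {n : ℕ} {g : Equiv.Perm (Fin N)} (h : n = key w g) (hne : n ≠ oneK w N) :
    g ≠ 1 :=
  fun e => hne (by rw [h, e, key_one])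

theorem key_word (hN : N ≤ 2 ^ w) {a b : ℕ} {A B : Equiv.Perm (Fin N)} (ha : Rep w N a A)
    (hb : Rep w N b B) : ∀ l : List Bool, wordK w N a b l = key w (wordP A B l)
  | [] => by rw [wordP]; exact key_one
  | c :: l => by
    rw [show wordP A B (c :: l) = (if c then B else A) * wordP A B l by simp [wordP]]
    cases c
    · exact key_comp ha (rep_word hN ha hb l)
    · exact key_comp hb (rep_word hN ha hb l)

/-- Check of one entry of a list of group elements. -/
noncomputable def closeK (w N : ℕ) (t : Tree) (gens : List ℕ) (k p g d : ℕ) : Bool :=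
  t.has k && ((gens.all fun x => t.has (compK w N x k)) &&
    ((d == 0 && k == oneK w N) || match t.get p with
      | none => false
      | some v => Nat.blt g gens.length && (Nat.blt v.2.2 d && compK w N (gens.getD g 0) p == k)))

/-- Certificate of the list of all elements of a generated subgroup. -/
structure ClosCert (w N : ℕ) (t : Tree) (gens : List ℕ) : Prop where
  one : t.has (oneK w N) = true
  node : t.every (closeK w N t gens) = true
  sorted : List.IsChain (· < ·) (t.entries.map Prod.fst)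

variable {t : Tree} {gens : List ℕ} {L : List (Equiv.Perm (Fin N))}

theorem ClosCert.has_key (hN : N ≤ 2 ^ w) (hc : ClosCert w N t gens) (hL : List.Forall₂ (Rep w N) gens L)
    {g : Equiv.Perm (Fin N)} (hg : g ∈ Subgroup.closure {x | x ∈ L}) : t.has (key w g) = true := by
  rw [← Subgroup.mem_toSubmonoid, Subgroup.closure_toSubmonoid_of_finite] at hg
  induction hg using Submonoid.closure_induction_left with
  | one => rw [← key_one]; exact hc.one
  | mul_left x hx y _ ih =>
    obtain ⟨i, hi, rfl⟩ := List.getElem_of_mem hx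
    have hlen := hL.length_eq
    have hr : Rep w N (gens[i]'(hlen ▸ hi)) L[i] := hL.get (hlen ▸ hi) hi
    obtain ⟨p, q, d, h⟩ := Tree.sound_of_has hc.node ih
    simp only [closeK, Bool.and_eq_true] at h
    have := List.all_eq_true.1 h.2.1 _ (List.getElem_mem (hlen ▸ hi))
    rwa [key_comp hr (rep_key hN y)] at this

theorem ClosCert.reach (hN : N ≤ 2 ^ w) (hc : ClosCert w N t gens) (hL : List.Forall₂ (Rep w N) gens L) :
    ∀ (d k : ℕ) (v : ℕ × ℕ × ℕ), t.get k = some v → v.2.2 ≤ d →
      ∃ g ∈ Subgroup.closure {x | x ∈ L}, k = key w g := by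
  intro d
  induction d using Nat.strong_induction_on with
  | _ d ih =>
    intro k v hv hd
    have h := Tree.every_sound hc.node (Tree.mem_of_get hv)
    simp only [closeK, Bool.and_eq_true, Bool.or_eq_true] at h
    rcases h.2.2 with h' | h'
    · exact ⟨1, one_mem _, (beq_iff_eq.1 h'.2).trans key_one⟩
    cases hp : t.get v.1 with
    | none => simp [hp] at h'
    | some u =>
      simp only [hp, Bool.and_eq_true, Nat.blt_eq, beq_iff_eq] at h'
      obtain ⟨hg, hlt, hk⟩ := h'
      obtain ⟨g, hgm, hgk⟩ := ih u.2.2 (by omega) v.1 u hp le_rfl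
      have hlen := hL.length_eq
      have hr : Rep w N (gens[v.2.1]'hg) (L[v.2.1]'(hlen ▸ hg)) := hL.get hg (hlen ▸ hg)
      refine ⟨_, mul_mem (Subgroup.subset_closure (List.getElem_mem (hlen ▸ hg))) hgm, ?_⟩
      rw [← hk, List.getD_eq_getElem _ _ hg]
      exact key_comp hr (hgk ▸ rep_key hN g)

theorem ClosCert.exists_key (hN : N ≤ 2 ^ w) (hc : ClosCert w N t gens) (hL : List.Forall₂ (Rep w N) gens L)
    {k : ℕ} (hk : t.has k = true) : ∃ g ∈ Subgroup.closure {x | x ∈ L}, k = key w g := by
  obtain ⟨v, hv⟩ := Option.isSome_iff_exists.1 hk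
  exact hc.reach hN hL v.2.2 k v hv le_rfl

theorem ClosCert.card_eq (hN : N ≤ 2 ^ w) (hc : ClosCert w N t gens) (hL : List.Forall₂ (Rep w N) gens L) :
    Nat.card (Subgroup.closure {x | x ∈ L}) = t.entries.length := by
  classical
  have hnd : (t.entries.map Prod.fst).Nodup :=
    ((List.isChain_iff_pairwise).1 hc.sorted).imp fun h => ne_of_lt h
  rw [← List.length_map (f := Prod.fst), ← List.toFinset_card_of_nodup hnd, ← Set.ncard_coe_finset]
  refine (Nat.card_coe_set_eq _).trans ?_
  refine Set.ncard_congr (fun g _ => key w g) (fun g hg => ?_) (fun g h _ _ e => ?_) (fun k hk => ?_)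
  · obtain ⟨e, he, hee⟩ := Tree.exists_entry (hc.has_key hN hL hg)
    exact Finset.mem_coe.2 (List.mem_toFinset.2 (List.mem_map.2 ⟨e, he, hee⟩))
  · exact (rep_key hN g).inj (e ▸ rep_key hN h)
  · obtain ⟨e, he, rfl⟩ := List.mem_map.1 (List.mem_toFinset.1 (Finset.mem_coe.1 hk))
    have h := Tree.every_sound hc.node he
    simp only [closeK, Bool.and_eq_true] at h
    obtain ⟨g, hg, e'⟩ := hc.exists_key hN hL h.1
    exact ⟨g, hg, e'.symm⟩

end CfsgLib.Sporadic.OutCert
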