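import Cfsg.Agent.Lib.Sporadic.OutCert.Closure

/-!
Straight line computations of group elements given as numbers: every step is a product or an inverse of
earlier values.
-/

set_option autoImplicit false

namespace CfsgLib.Sporadic.OutCert

variable (w N : ℕ)

/-- The value at a position: first the given elements, then the steps. -/
def slpVal (gens : List ℕ) (st : List (ℕ × Bool × ℕ × ℕ)) (i : ℕ) : ℕ :=
  if i < gens.length then gens.getD i 0 else (st.getD (i - gens.length) (0, false, 0, 0)).1

/-- One step is right. -/
noncomputable def slpStepK (gens : List ℕ) (st : List (ℕ × Bool × ℕ × ℕ)) (k : ℕ) : Bool :=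
  let e := st.getD k (0, false, 0, 0)
  Nat.blt e.2.2.1 (gens.length + k) &&
    if e.2.1 then validK w N (slpVal gens st e.2.2.1) e.1
    else Nat.blt e.2.2.2 (gens.length + k) &&
      compK w N (slpVal gens st e.2.2.1) (slpVal gens st e.2.2.2) == e.1

/-- All steps are right. -/
noncomputable def slpCheck (gens : List ℕ) (st : List (ℕ × Bool × ℕ × ℕ)) : Bool :=
  allF (slpStepK w N gens st) st.length

variable {w N}

/-- All values lie in a subgroup containing the given elements. -/
theorem slp_sound (hN : N ≤ 2 ^ w) {gens : List ℕ} {st : List (ℕ × Bool × ℕ × ℕ)}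
    (hc : slpCheck w N gens st = true) {S : Subgroup (Equiv.Perm (Fin N))}
    (hg : ∀ i < gens.length, ∃ g ∈ S, Rep w N (gens.getD i 0) g) :
    ∀ i < gens.length + st.length, ∃ g ∈ S, Rep w N (slpVal gens st i) g := by
  intro i
  induction i using Nat.strong_induction_on with
  | _ i ih =>
    intro hi
    by_cases h : i < gens.length
    · rw [slpVal, if_pos h]; exact hg i h
    obtain ⟨k, rfl⟩ : ∃ k, i = gens.length + k := ⟨i - gens.length, by omega⟩
    have hk := allF_iff.1 hc k (by omega)
    rw [slpVal, if_neg h, Nat.add_sub_cancel_left]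
    simp only [slpStepK, Bool.and_eq_true, Nat.blt_eq] at hk
    obtain ⟨x, hx, hxr⟩ := ih _ hk.1 (by omega)
    by_cases he : (st.getD k (0, false, 0, 0)).2.1 = true
    · rw [if_pos he] at hk
      refine ⟨x⁻¹, inv_mem hx, ?_⟩
      have h' := rep_permOf_inv hk.2
      rwa [(rep_permOf hk.2).inj hxr] at h'
    · rw [if_neg he] at hk
      simp only [Bool.and_eq_true, Nat.blt_eq, beq_iff_eq] at hk
      obtain ⟨y, hy, hyr⟩ := ih _ hk.2.1 (by omega)
      refine ⟨x * y, mul_mem hx hy, ?_⟩
      rw [← hk.2.2]
      exact rep_comp hN hxr hyr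

end CfsgLib.Sporadic.OutCert
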