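import Cfsg.Agent.Lib.Sporadic.OutCert.GraphCert

/-!
The members of the stabiliser of a pair function which commute with a given permutation, found by a search
over the images of a few points.
-/

set_option autoImplicit false

namespace CfsgLib.Sporadic.OutCert.CentDfs

variable (w : ℕ) (D : ℕ → ℕ → ℕ) (P : List ℕ)

/-- The pattern of two points against each other under the powers of the permutation. -/
def crossK (x y : ℕ) : ℕ := pk 2 (P.map fun p => D x (lk w p y))

/-- The listed candidates contain every point with the pattern of the base point. -/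
noncomputable def candsK (N : ℕ) (L : List (ℕ × List ℕ)) : Bool :=
  (List.range N).all fun t => L.all fun e =>
    !(crossK w D P t t == crossK w D P e.1 e.1) || e.2.any fun y => Nat.beq y t

/-- Every consistent choice of images is among the allowed ones. -/
noncomputable def dfsK (allow : List (List ℕ)) : List (ℕ × List ℕ) → List (ℕ × ℕ) → Bool
  | [], im => allow.contains (im.map Prod.snd)
  | e :: r, im => e.2.all fun y =>
      !(im.all fun p => crossK w D P p.1 e.1 == crossK w D P p.2 y) || dfsK allow r (im ++ [(e.1, y)])

variable {w D P} {N : ℕ}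

theorem cross_eq {g c : Equiv.Perm (Fin N)} {o : ℕ} (hP : P.length = o)
    (hrep : ∀ k < o, Rep w N (P.getD k 0) (g ^ k)) (hc : c ∈ pairStab D) (hcg : Commute c g)
    (x y : Fin N) : crossK w D P (c x) (c y) = crossK w D P x y := by
  rw [crossK, crossK]
  congr 1
  refine List.map_congr_left fun p hp => ?_
  obtain ⟨k, hk, rfl⟩ := List.getElem_of_mem hp
  have hr := hrep k (hP ▸ hk)
  rw [List.getD_eq_getElem _ _ hk] at hr
  have e := DFunLike.congr_fun (hcg.pow_right k).eq y
  rw [Equiv.Perm.mul_apply, Equiv.Perm.mul_apply] at e
  rw [hr (c y), hr y, ← e]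
  exact hc x ((g ^ k) y)

/-- The images of the base points under such a permutation are allowed. -/
theorem dfs_spec {g c : Equiv.Perm (Fin N)} {o : ℕ} (hP : P.length = o)
    (hrep : ∀ k < o, Rep w N (P.getD k 0) (g ^ k)) (hc : c ∈ pairStab D) (hcg : Commute c g)
    {allow : List (List ℕ)} : ∀ (L : List (ℕ × List ℕ)) (im : List (ℕ × ℕ)) (xs : List (Fin N)),
      candsK w D P N L = true → dfsK w D P allow L im = true → (∀ e ∈ L, e.1 < N) →
      im = xs.map (fun x : Fin N => ((x : ℕ), (c x : ℕ))) →
      ∃ ys : List (Fin N), ys.map Fin.val = im.map Prod.fst ++ L.map Prod.fst ∧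
        ys.map (fun y : Fin N => (c y : ℕ)) ∈ allow
  | [], im, xs, _, h, _, him => by
    simp only [dfsK, List.contains_iff_mem] at h
    refine ⟨xs, by simp [him], ?_⟩
    simpa [him, Function.comp_def] using h
  | e :: r, im, xs, hcand, h, hlt, him => by
    let x : Fin N := ⟨e.1, hlt e List.mem_cons_self⟩
    simp only [candsK, List.all_eq_true, List.mem_range] at hcand
    have h1 := hcand (c x) (c x).2 e List.mem_cons_self
    rw [show crossK w D P (c x) (c x) = crossK w D P e.1 e.1 from cross_eq hP hrep hc hcg x x] at h1
    simp only [beq_self_eq_true, Bool.not_true, Bool.false_or, List.any_eq_true, Nat.beq_eq] at h1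
    obtain ⟨y, hy, hyx⟩ := h1
    simp only [dfsK, List.all_eq_true] at h
    have h2 := h y hy
    have hall : (im.all fun p => crossK w D P p.1 e.1 == crossK w D P p.2 y) = true := by
      rw [List.all_eq_true]
      intro p hp
      rw [him, List.mem_map] at hp
      obtain ⟨u, -, rfl⟩ := hp
      rw [beq_iff_eq, hyx]
      exact (cross_eq hP hrep hc hcg u x).symm
    rw [hall, Bool.not_true, Bool.false_or] at h2
    obtain ⟨ys, h3, h4⟩ := dfs_spec hP hrep hc hcg r (im ++ [(e.1, y)]) (xs ++ [x])
      (by simp only [candsK, List.all_eq_true, List.mem_range]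
          exact fun t ht f hf => hcand t ht f (List.mem_cons_of_mem _ hf))
      h2 (fun f hf => hlt f (List.mem_cons_of_mem _ hf)) (by simp [him, hyx, x])
    exact ⟨ys, by simpa using h3, h4⟩

end CfsgLib.Sporadic.OutCert.CentDfs
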