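import Cfsg.Agent.Lib.SmallGroups.LeechLists

/-!
Inner products of stored vectors from one multiplication of spread-out code numbers.
-/

set_option autoImplicit false

namespace CfsgLib.Sporadic.OutCert.DotTab

open CfsgLib.SmallGroups CfsgLib.SmallGroups.LeechOrbit CfsgLib.SmallGroups.LeechLists

/-- The stored digit. -/
def xd (n k : ℕ) : ℕ := n / 16 ^ k % 16

/-- The digits spread out, lowest first. -/
def spread (n : ℕ) : ℕ := ((List.range 24).map fun k => xd n k * 65536 ^ k).sum

/-- The digits spread out, highest first. -/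
def spreadRev (n : ℕ) : ℕ := ((List.range 24).map fun k => xd n k * 65536 ^ (23 - k)).sum

/-- The sum of the digits. -/
def dsum (n : ℕ) : ℕ := ((List.range 24).map fun k => xd n k).sum

theorem xd_le (n k : ℕ) : xd n k ≤ 15 := by
  have := Nat.mod_lt (n / 16 ^ k) (show 16 > 0 by norm_num)
  unfold xd
  omega

theorem list_range_sum {M : Type*} [AddCommMonoid M] (n : ℕ) (f : ℕ → M) :
    ((List.range n).map f).sum = ∑ i ∈ Finset.range n, f i := by
  rw [← List.sum_toFinset _ List.nodup_range, List.toFinset_range]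

/-- The middle digit of a product of two sums without carries. -/
theorem middle_gen (x y : ℕ → ℕ) (hx : ∀ k, x k ≤ 15) (hy : ∀ k, y k ≤ 15) (B : ℕ) (hB : 62100 < B) :
    (∑ k ∈ Finset.range 24, x k * B ^ k) * (∑ l ∈ Finset.range 24, y l * B ^ (23 - l)) / B ^ 23 % B =
      ∑ k ∈ Finset.range 24, x k * y k := by
  set r := Finset.range 24 with hr
  set S := ∑ k ∈ r, x k * y k with hS
  set Lo := ∑ k ∈ r, ∑ l ∈ r, (if k < l then x k * y l * B ^ (k + (23 - l)) else 0) with hLo
  set Hi := ∑ k ∈ r, ∑ l ∈ r, (if l < k then x k * y l * B ^ (k - l - 1) else 0) with hHi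
  have hexp : (∑ k ∈ r, x k * B ^ k) * (∑ l ∈ r, y l * B ^ (23 - l)) = Lo + B ^ 23 * (S + B * Hi) := by
    rw [Finset.sum_mul_sum, hS, hHi, hLo,
      mul_add, ← mul_assoc, Finset.mul_sum, Finset.mul_sum, ← Finset.sum_add_distrib, ← Finset.sum_add_distrib]
    refine Finset.sum_congr rfl fun k hk => ?_
    have hk' : k < 24 := Finset.mem_range.1 hk
    have e : B ^ 23 * (x k * y k) = ∑ l ∈ r, if k = l then B ^ 23 * (x k * y l) else 0 := by
      rw [Finset.sum_ite_eq, if_pos hk]
    rw [e, Finset.mul_sum, ← Finset.sum_add_distrib, ← Finset.sum_add_distrib]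
    refine Finset.sum_congr rfl fun l hl => ?_
    have hl' : l < 24 := Finset.mem_range.1 hl
    rcases lt_trichotomy k l with h | h | h
    · simp only [if_pos h, if_neg h.ne, if_neg h.not_gt, mul_zero, add_zero, zero_add]
      rw [pow_add]
      ring
    · subst h
      simp only [lt_irrefl, if_false, if_true, mul_zero, add_zero, zero_add]
      have hp : B ^ 23 = B ^ k * B ^ (23 - k) := by rw [← pow_add, Nat.add_sub_cancel' (show k ≤ 23 by omega)]
      rw [hp]
      ring
    · simp only [if_neg h.not_gt, if_neg h.ne', if_pos h, mul_zero, add_zero, zero_add]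
      have hp : B ^ k * B ^ (23 - l) = B ^ 23 * B * B ^ (k - l - 1) := by
        rw [← pow_succ, ← pow_add, ← pow_add, show 23 + 1 + (k - l - 1) = k + (23 - l) by omega]
      calc x k * B ^ k * (y l * B ^ (23 - l)) = x k * y l * (B ^ k * B ^ (23 - l)) := by ring
        _ = _ := by rw [hp]; ring
  have hSlt : S < B := by
    have : S ≤ ∑ k ∈ r, 225 :=
      Finset.sum_le_sum fun k _ => Nat.mul_le_mul (hx k) (hy k)
    simp only [hr, Finset.sum_const, Finset.card_range, smul_eq_mul] at this
    omega
  have hLlt : Lo < B ^ 23 := by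
    have hb : Lo ≤ ∑ k ∈ r, ∑ l ∈ r, (if k < l then 225 * B ^ 22 else 0) := by
      refine Finset.sum_le_sum fun k hk => Finset.sum_le_sum fun l hl => ?_
      by_cases h : k < l
      · rw [if_pos h, if_pos h]
        refine Nat.mul_le_mul (Nat.mul_le_mul (hx k) (hy l)) (Nat.pow_le_pow_right (by omega) ?_)
        have := Finset.mem_range.1 hl
        omega
      · rw [if_neg h, if_neg h]
    have hc : ∑ k ∈ r, ∑ l ∈ r, (if k < l then 225 * B ^ 22 else 0) = 62100 * B ^ 22 := by
      have : ∀ c : ℕ, ∑ k ∈ r, ∑ l ∈ r, (if k < l then c else 0) = 276 * c := fun c => by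
        simp only [hr, ← Finset.sum_filter, Finset.sum_const, smul_eq_mul, ← Finset.sum_mul]
        congr 1
      rw [this, ← mul_assoc, show (276 : ℕ) * 225 = 62100 by norm_num]
    calc Lo ≤ 62100 * B ^ 22 := hb.trans hc.le
      _ < B * B ^ 22 := Nat.mul_lt_mul_of_pos_right (by omega) (pow_pos (by omega) _)
      _ = B ^ 23 := (pow_succ' B 22).symm
  rw [hexp, Nat.add_mul_div_left _ _ (pow_pos (by omega) _), Nat.div_eq_of_lt hLlt, zero_add,
    Nat.add_mul_mod_self_left, Nat.mod_eq_of_lt hSlt]

/-- The middle digit of the product is the inner product of the digits. -/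
theorem middle (a b : ℕ) :
    spread a * spreadRev b / 65536 ^ 23 % 65536 = ∑ k ∈ Finset.range 24, xd a k * xd b k := by
  rw [spread, spreadRev, list_range_sum, list_range_sum]
  exact middle_gen (xd a) (xd b) (xd_le a) (xd_le b) 65536 (by norm_num)

/-- The inner product of two stored vectors from their spread-out numbers. -/
theorem dotK_eq_middle (a b : ℕ) :
    dotK a b = (spread a * spreadRev b / 65536 ^ 23 % 65536 : ℕ) -
      8 * ((dsum a + dsum b : ℕ) : ℤ) + 1536 := by
  rw [middle, dotK, dsum, dsum, list_range_sum, list_range_sum, list_range_sum]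
  have e : ∀ k, dig a k * dig b k =
      ((xd a k * xd b k : ℕ) : ℤ) - 8 * ((xd a k + xd b k : ℕ) : ℤ) + 64 := fun k => by
    simp only [dig, xd]
    push_cast
    ring
  simp only [e, Finset.sum_add_distrib, Finset.sum_sub_distrib, ← Finset.mul_sum, Nat.cast_add,
    Nat.cast_sum, Finset.sum_const, Finset.card_range]
  norm_num

end CfsgLib.Sporadic.OutCert.DotTab
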