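import Cfsg.Agent.Lib.Sporadic.OutCert.Perm

/-!
A permutation preserving a pair function is determined by its values on points which separate all others.
-/

set_option autoImplicit false

namespace CfsgLib.Sporadic.OutCert

variable {N : ℕ}

/-- The permutations preserving a pair function. -/
def pairStab {β : Type*} (D : ℕ → ℕ → β) : Subgroup (Equiv.Perm (Fin N)) where
  carrier := {g | ∀ i j : Fin N, D (g i) (g j) = D i j}
  one_mem' := fun _ _ => rfl
  mul_mem' := fun {g h} hg hh i j => (hg (h i) (h j)).trans (hh i j)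
  inv_mem' := fun {g} hg i j => by
    have h := hg (g⁻¹ i) (g⁻¹ j)
    simp only [Equiv.Perm.inv_def, Equiv.apply_symm_apply] at h ⊢
    exact h.symm

theorem mem_pairStab {β : Type*} {D : ℕ → ℕ → β} {g : Equiv.Perm (Fin N)} :
    g ∈ pairStab D ↔ ∀ i j : Fin N, D (g i) (g j) = D i j := Iff.rfl

/-- The signature of a point. -/
def sigK (w : ℕ) (D : ℕ → ℕ → ℕ) (Q : List ℕ) (y : ℕ) : ℕ := pk w (Q.map (D y))

/-- The tree finds each point from its signature. -/
def sigCheck (w N : ℕ) (D : ℕ → ℕ → ℕ) (Q : List ℕ) (t : Tree) : Bool :=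
  (List.range N).all fun y => match t.get (sigK w D Q y) with
    | none => false
    | some v => Nat.beq v.1 y

theorem sig_inj {w : ℕ} {D : ℕ → ℕ → ℕ} {Q : List ℕ} {t : Tree} (h : sigCheck w N D Q t = true)
    {x y : Fin N} (e : sigK w D Q x = sigK w D Q y) : x = y := by
  have hx := List.all_eq_true.1 h x (List.mem_range.2 x.2)
  have hy := List.all_eq_true.1 h y (List.mem_range.2 y.2)
  rw [e] at hx
  cases hv : t.get (sigK w D Q y) with
  | none => simp [hv] at hy
  | some v =>
    simp only [hv, Nat.beq_eq] at hx hy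
    exact Fin.ext (hx.symm.trans hy)

/-- Two members of the stabiliser agreeing on the separating points are equal. -/
theorem eq_of_agree {w : ℕ} {D : ℕ → ℕ → ℕ} {Q : List ℕ} {t : Tree} (h : sigCheck w N D Q t = true)
    {c e : Equiv.Perm (Fin N)} (hc : c ∈ pairStab D) (he : e ∈ pairStab D)
    (hQ : ∀ q ∈ Q, ∃ i : Fin N, (i : ℕ) = q ∧ c i = e i) : c = e := by
  suffices hd : e⁻¹ * c = 1 by exact (inv_mul_eq_one.1 hd).symm
  have hm := mul_mem (inv_mem he) hc
  refine Equiv.ext fun y => sig_inj h ?_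
  rw [sigK, sigK]
  congr 1
  refine List.map_congr_left fun q hq => ?_
  obtain ⟨i, rfl, hi⟩ := hQ q hq
  have h1 := hm y i
  rwa [Equiv.Perm.mul_apply e⁻¹ c i, hi, Equiv.Perm.inv_def, Equiv.symm_apply_apply] at h1

end CfsgLib.Sporadic.OutCert
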