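import Cfsg.Agent.Lib.Sporadic.OutCert.CentDfs

/-!
Rows of adjacency moved by a permutation, and a descent through point stabilisers inside a centraliser.
-/

set_option autoImplicit false

namespace CfsgLib.Sporadic.OutCert.Stage

/-- The bits at the images of listed points. -/
def setK (f : ℕ → ℕ) : ℕ → ℕ
  | 0 => 0
  | d + 1 => setK f d ||| 2 ^ f d

theorem testBit_setK (f : ℕ → ℕ) (d v : ℕ) : (setK f d).testBit v = true ↔ ∃ i < d, f i = v := by
  induction d with
  | zero => simp [setK]
  | succ d ih =>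
    rw [setK, Nat.testBit_lor, Bool.or_eq_true, ih, Nat.testBit_two_pow, decide_eq_true_eq]
    constructor
    · rintro (⟨i, hi, e⟩ | e)
      · exact ⟨i, by omega, e⟩
      · exact ⟨d, by omega, e⟩
    · rintro ⟨i, hi, e⟩
      rcases Nat.lt_or_ge i d with h | h
      · exact Or.inl ⟨i, h, e⟩
      · exact Or.inr (by rwa [show d = i by omega])

/-- One row, given also as a list, is moved correctly. -/
noncomputable def rowImgK (w N d : ℕ) (row : ℕ → ℕ) (g L u : ℕ) : Bool :=
  allF (fun i => Nat.blt (lk w L i) N) d &&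
    (row u == setK (fun i => lk w L i) d && row (lk w g u) == setK (fun i => lk w g (lk w L i)) d)

theorem rowImg_spec {w N d : ℕ} {row : ℕ → ℕ} {k L : ℕ} {g : Equiv.Perm (Fin N)} (hg : Rep w N k g)
    {r : Fin N} (h : rowImgK w N d row k L r = true) (v : Fin N) :
    (row (g r)).testBit (g v) = (row r).testBit v := by
  simp only [rowImgK, Bool.and_eq_true, allF_iff, Nat.blt_eq, beq_iff_eq] at h
  obtain ⟨hb, h1, h2⟩ := h
  rw [hg r] at h2
  rw [Bool.eq_iff_iff, h1, h2, testBit_setK, testBit_setK]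
  constructor
  · rintro ⟨i, hi, e⟩
    refine ⟨i, hi, ?_⟩
    have e' : g ⟨lk w L i, hb i hi⟩ = g v := Fin.ext ((hg _).symm.trans e)
    exact congrArg Fin.val (g.injective e')
  · rintro ⟨i, hi, e⟩
    exact ⟨i, hi, by rw [e, hg v]⟩

/-- A permutation conjugating automorphisms into automorphisms and moving some rows rightly is one. -/
theorem mem_of_reps {N : ℕ} {β : Type*} {D : ℕ → ℕ → β} {g : Equiv.Perm (Fin N)}
    (h : ∀ u : Fin N, ∃ (α γ : Equiv.Perm (Fin N)) (r : Fin N), α ∈ pairStab D ∧ γ ∈ pairStab D ∧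
      g * α = γ * g ∧ α r = u ∧ ∀ v : Fin N, D (g r) (g v) = D r v) : g ∈ pairStab D := by
  intro u v
  obtain ⟨α, γ, r, hα, hγ, hg, rfl, hr⟩ := h u
  have e : ∀ x : Fin N, g (α x) = γ (g x) := fun x => by
    rw [← Equiv.Perm.mul_apply, hg, Equiv.Perm.mul_apply]
  obtain ⟨w, rfl⟩ := α.surjective v
  show D (g (α r) : ℕ) (g (α w) : ℕ) = D (α r : ℕ) (α w : ℕ)
  rw [e, e, hγ, hr, hα]

/-- The choices of one entry from each list. -/
def choices : List (List ℕ) → List (List ℕ)
  | [] => [[]]
  | T :: r => T.flatMap fun k => (choices r).map (k :: ·)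

variable (w : ℕ) (D : ℕ → ℕ → ℕ) (P : List ℕ)

/-- The listed elements cover the points looking like the base point over the fixed ones. -/
noncomputable def stageK (N : ℕ) : List ℕ → List (ℕ × List ℕ) → Bool
  | _, [] => true
  | pre, (x, T) :: r =>
    Nat.blt x N &&
      ((T.all fun k => pre.all fun p => Nat.beq (lk w k p) p) &&
        ((allF (fun z => !(CentDfs.crossK w D P z z == CentDfs.crossK w D P x x &&
            pre.all fun p => CentDfs.crossK w D P p z == CentDfs.crossK w D P p x) ||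
          T.any fun k => Nat.beq (lk w k x) z) N) &&
        stageK N (pre ++ [x]) r))

variable {w D P} {N : ℕ}

/-- A member of the centraliser is a product of listed elements and one fixing all the base points. -/
theorem descend {g : Equiv.Perm (Fin N)} {o : ℕ} (hP : P.length = o)
    (hrep : ∀ k < o, Rep w N (P.getD k 0) (g ^ k)) :
    ∀ (st : List (ℕ × List ℕ)) (pre : List (Fin N)) (c : Equiv.Perm (Fin N)),
      (∀ e ∈ st, ∀ k ∈ e.2, ∃ x, Rep w N k x ∧ x ∈ pairStab D ∧ Commute x g) →
      stageK w D P N (pre.map Fin.val) st = true → c ∈ pairStab D → Commute c g → (∀ p ∈ pre, c p = p) →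
      ∃ (ks : List ℕ) (L : List (Equiv.Perm (Fin N))) (d : Equiv.Perm (Fin N)) (xs : List (Fin N)),
        ks ∈ choices (st.map Prod.snd) ∧ List.Forall₂ (Rep w N) ks L ∧ c = L.prod * d ∧ d ∈ pairStab D ∧
          Commute d g ∧ xs.map Fin.val = pre.map Fin.val ++ st.map Prod.fst ∧ ∀ p ∈ xs, d p = p
  | [], pre, c, _, _, hc, hcg, hfix =>
    ⟨[], [], c, pre, by simp [choices], List.Forall₂.nil, by simp, hc, hcg, by simp, hfix⟩
  | (x, T) :: r, pre, c, hT, h, hc, hcg, hfix => by
    simp only [stageK, Bool.and_eq_true, Nat.blt_eq, List.all_eq_true, allF_iff, Nat.beq_eq] at h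
    obtain ⟨hx, hTfix, hcov, hrest⟩ := h
    let X : Fin N := ⟨x, hx⟩
    have h1 := hcov (c X) (c X).2
    have he : CentDfs.crossK w D P (c X) (c X) = CentDfs.crossK w D P x x :=
      CentDfs.cross_eq hP hrep hc hcg X X
    have hp : ((pre.map Fin.val).all fun p =>
        CentDfs.crossK w D P p (c X) == CentDfs.crossK w D P p x) = true := by
      rw [List.all_eq_true]
      intro p hp
      obtain ⟨y, hy, rfl⟩ := List.mem_map.1 hp
      rw [beq_iff_eq]
      conv_lhs => rw [← hfix y hy]
      exact CentDfs.cross_eq hP hrep hc hcg y X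
    rw [he, beq_self_eq_true, hp] at h1
    simp only [Bool.and_true, Bool.not_true, Bool.false_or, List.any_eq_true, Nat.beq_eq] at h1
    obtain ⟨k, hk, hkx⟩ := h1
    obtain ⟨s, hs, hsS, hsg⟩ := hT _ List.mem_cons_self k hk
    have hsX : s X = c X := Fin.ext ((hs X).symm.trans hkx)
    obtain ⟨ks, L, d, xs, h2, h3, h4, h5, h6, h7, h8⟩ := descend hP hrep r (pre ++ [X]) (s⁻¹ * c)
      (fun e he => hT e (List.mem_cons_of_mem _ he)) (by rw [List.map_append]; exact hrest)
      (mul_mem (inv_mem hsS) hc) (hsg.inv_left.mul_left hcg) (by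
        intro p hp
        rw [Equiv.Perm.mul_apply, Equiv.Perm.inv_eq_iff_eq]
        rw [List.mem_append, List.mem_singleton] at hp
        rcases hp with hp | rfl
        · rw [hfix p hp]
          exact Fin.ext ((hTfix k hk p (List.mem_map.2 ⟨p, hp, rfl⟩)).symm.trans (hs p))
        · exact hsX.symm)
    refine ⟨k :: ks, s :: L, d, xs, ?_, List.Forall₂.cons hs h3, ?_, h5, h6, ?_, h8⟩
    · simp only [List.map_cons, choices, List.mem_flatMap, List.mem_map]
      exact ⟨k, hk, ks, h2, rfl⟩
    · rw [List.prod_cons, mul_assoc, ← h4, mul_inv_cancel_left]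
    · rw [h7]; simp [X]

end CfsgLib.Sporadic.OutCert.Stage
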